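import Cfsg.Agent.S4081
import Cfsg.Agent.Lib.Transfer.Burnside
import Mathlib.GroupTheory.Nilpotent

/-!
# Groups in which every nontrivial element has prime order

If such a group `K` has a nontrivial abelian normal `p`-subgroup then its Sylow `p`-subgroup is
normal and at most one further prime divides the order, to the first power.
-/

set_option linter.style.haveILetI false

namespace Cfsg.Agent.FourOrbits

open scoped IsMulCommutative
open Cfsg.Agent.ThreeOrbits Cfsg.Agent.S4081 Subgroup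

universe u

/-- Every nontrivial element has prime order. -/
def PrimeOrders (K : Type u) [Group K] : Prop := ∀ g : K, g ≠ 1 → (orderOf g).Prime

variable {K : Type u} [Group K]

theorem PrimeOrders.subgroup (h : PrimeOrders K) (H : Subgroup K) : PrimeOrders H := fun g hg => by
  rw [← Subgroup.orderOf_coe]
  exact h g fun e => hg (Subtype.ext e)

theorem PrimeOrders.orderOf_eq (h : PrimeOrders K) {g k : K} (hc : Commute g k) (hg : g ≠ 1)
    (hk : k ≠ 1) : orderOf g = orderOf k := by
  by_contra hne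
  have h1 := (hc.orderOf_mul_eq_mul_orderOf_of_coprime
    ((Nat.coprime_primes (h g hg) (h k hk)).2 hne))
  by_cases h0 : g * k = 1
  · rw [h0, orderOf_one] at h1
    exact (h g hg).ne_one (Nat.eq_one_of_mul_eq_one_right h1.symm)
  · have h2 := h _ h0
    rw [h1] at h2
    exact Nat.not_prime_mul (h g hg).ne_one (h k hk).ne_one h2

theorem PrimeOrders.orderOf_of_isPGroup (h : PrimeOrders K) {p : ℕ} [hp : Fact p.Prime]
    {H : Subgroup K} (hH : IsPGroup p H) {g : K} (hg : g ∈ H) (hg1 : g ≠ 1) : orderOf g = p := by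
  obtain ⟨k, hk⟩ := IsPGroup.iff_orderOf.1 hH ⟨g, hg⟩
  rw [Subgroup.orderOf_mk] at hk
  have h2 := h g hg1
  rw [hk] at h2
  rcases Nat.eq_zero_or_pos k with rfl | hk0
  · rw [pow_zero] at h2; exact absurd h2 Nat.not_prime_one
  · exact hk.trans ((Nat.prime_dvd_prime_iff_eq hp.out h2).1 (dvd_pow_self p hk0.ne')).symm

theorem PrimeOrders.pow_eq_one (h : PrimeOrders K) {p : ℕ} [hp : Fact p.Prime]
    {H : Subgroup K} (hH : IsPGroup p H) {g : K} (hg : g ∈ H) : g ^ p = 1 := by
  by_cases hg1 : g = 1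
  · simp [hg1]
  · rw [← h.orderOf_of_isPGroup hH hg hg1, pow_orderOf_eq_one]

/-- The elements centralising a nontrivial `p`-element form a `p`-group. -/
theorem PrimeOrders.isPGroup_centralizer (h : PrimeOrders K) {p : ℕ} [hp : Fact p.Prime] {x : K}
    (hx : orderOf x = p) : IsPGroup p (centralizer ({x} : Set K)) := by
  intro g
  refine ⟨1, Subtype.ext ?_⟩
  by_cases hg1 : (g : K) = 1
  · simp [hg1]
  · have := h.orderOf_eq (show Commute (g : K) x from mem_centralizer_singleton_iff.1 g.2) hg1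
      (fun e => by rw [e, orderOf_one] at hx; exact hp.out.ne_one hx.symm)
    rw [hx] at this
    simp [← this, pow_orderOf_eq_one]

section Normal

variable [Finite K] {p : ℕ} [hp : Fact p.Prime] {V : Subgroup K} [V.Normal] [IsMulCommutative V]

theorem PrimeOrders.fix_free (h : PrimeOrders K) (hVp : IsPGroup p V) {g : K} (hg : g ≠ 1)
    (hgp : orderOf g ≠ p) : ∀ a : V, a ≠ 1 → g * (a : K) * g⁻¹ ≠ (a : K) := fun a ha he => by
  have ha1 : (a : K) ≠ 1 := fun e => ha (Subtype.ext e)
  exact hgp ((h.orderOf_eq (show Commute g (a : K) from mul_inv_eq_iff_eq_mul.1 he) hg ha1).trans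
    (h.orderOf_of_isPGroup hVp a.2 ha1))

/-- No element of order `q ≠ p` is normalised nontrivially. -/
theorem PrimeOrders.eq_one_of_conj_pow (h : PrimeOrders K) (hV : V ≠ ⊥) (hVp : IsPGroup p V)
    {q : ℕ} [hq : Fact q.Prime] (hqp : q ≠ p) {x y : K} (hy : orderOf y = q) (hx : x ≠ 1) {i : ℕ}
    (hi : x * y * x⁻¹ = y ^ i) : (i : ZMod q) = 1 := by
  classical
  by_contra hi1
  have hexp : ∀ a ∈ V, a ^ p = 1 := fun a ha => h.pow_eq_one hVp ha
  suffices H : ∀ [Module (ZMod p) (Additive V)], False from @H (zmodMod hexp)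
  intro _inst
  set r := orderOf x with hr
  have hrp : r.Prime := h x hx
  have hxr : x ^ r = 1 := pow_orderOf_eq_one x
  have hy1 : y ≠ 1 := fun e => by rw [e, orderOf_one] at hy; exact hq.out.ne_one hy.symm
  have hyq : y ^ q = 1 := by rw [← hy, pow_orderOf_eq_one]
  have hypow : ∀ {m l : ℕ}, (m : ZMod q) = l → y ^ m = y ^ l := fun {m l} e => by
    rw [pow_eq_pow_mod m hyq, pow_eq_pow_mod l hyq, (ZMod.natCast_eq_natCast_iff' _ _ _).1 e]
  have hconj : ∀ k, x ^ k * y * (x ^ k)⁻¹ = y ^ (i ^ k) := by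
    intro k
    induction k with
    | zero => simp
    | succ k ih =>
      rw [pow_succ', mul_inv_rev, show x * x ^ k * y * ((x ^ k)⁻¹ * x⁻¹)
        = x * (x ^ k * y * (x ^ k)⁻¹) * x⁻¹ by group, ih, ← conj_pow, hi, ← pow_mul, pow_succ']
  have hirq : (i : ZMod q) ^ r = 1 := by
    have h1 := hconj r
    rw [hxr, inv_one, mul_one, one_mul] at h1
    conv_lhs at h1 => rw [← pow_one y]
    have h2 := pow_eq_pow_iff_modEq.1 h1
    rw [hy] at h2
    rw [← Nat.cast_pow, ← Nat.cast_one]
    exact ((ZMod.natCast_eq_natCast_iff _ _ _).2 h2).symm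
  -- partial sums
  let s : ℕ → ℕ := fun k => ∑ l ∈ Finset.range k, i ^ l
  have hs : ∀ k, ((s k : ℕ) : ZMod q) * ((i : ZMod q) - 1) = (i : ZMod q) ^ k - 1 := fun k => by
    simp only [s, Nat.cast_sum, Nat.cast_pow]
    exact geom_sum_mul _ k
  have hs0 : ∀ k < r, ((s k : ℕ) : ZMod q) = 0 → k = 0 := by
    intro k hk hsk
    have h1 := hs k
    rw [hsk, zero_mul, eq_comm, sub_eq_zero] at h1
    by_contra hk0
    haveI := Fact.mk hrp
    have : orderOf (i : ZMod q) = r := orderOf_eq_prime hirq hi1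
    have h3 := orderOf_dvd_of_pow_eq_one h1
    rw [this] at h3
    exact absurd (Nat.le_of_dvd (Nat.pos_of_ne_zero hk0) h3) (by omega)
  have hsr : ((s r : ℕ) : ZMod q) = 0 := by
    have h1 := hs r
    rw [hirq, sub_self, mul_eq_zero, sub_eq_zero] at h1
    exact h1.resolve_right hi1
  have hmulpow : ∀ c k : ℕ, (y ^ c * x) ^ k = y ^ (c * s k) * x ^ k := by
    intro c k
    induction k with
    | zero => simp [s]
    | succ k ih =>
      have h1 : x ^ k * y ^ c = y ^ (c * i ^ k) * x ^ k := by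
        rw [← mul_inv_eq_iff_eq_mul, ← conj_pow, hconj, ← pow_mul, mul_comm]
      rw [pow_succ, ih, show y ^ (c * s k) * x ^ k * (y ^ c * x) = y ^ (c * s k) * (x ^ k * y ^ c) * x by group,
        h1, show s (k + 1) = s k + i ^ k from Finset.sum_range_succ _ _, Nat.mul_add, pow_add, pow_succ]
      group
  have hYq : conjOp (p := p) V y ^ q = 1 := conjOp_pow_eq_one V hyq
  have hYfix : ∀ u, conjOp (p := p) V y u = u → u = 0 :=
    conjOp_fix V (h.fix_free hVp hy1 (hy ▸ hqp))
  -- the geometric sum of each `y^c x` kills `V`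
  have hsum : ∀ c : ℕ, ∑ k ∈ Finset.range r, conjOp (p := p) V (y ^ c * x) ^ k = 0 := by
    intro c
    set g := y ^ c * x with hg
    have hgr : g ^ r = 1 := by
      rw [hg, hmulpow, hxr, mul_one, ← pow_zero y]
      exact hypow (by rw [Nat.cast_mul, hsr, mul_zero, Nat.cast_zero])
    have hg1 : g ≠ 1 := by
      intro e
      have hxy : x = (y ^ c)⁻¹ := eq_inv_of_mul_eq_one_right e
      have hyi : y = y ^ i := by
        rw [← hi, hxy]; group
      refine hi1 ?_
      conv_lhs at hyi => rw [← pow_one y]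
      have h2 := pow_eq_pow_iff_modEq.1 hyi
      rw [hy] at h2
      exact (((ZMod.natCast_eq_natCast_iff 1 i q).2 h2).symm.trans Nat.cast_one)
    haveI := Fact.mk hrp
    have hgo : orderOf g = r := orderOf_eq_prime hgr hg1
    by_cases hrp' : r = p
    · refine LinearMap.ext fun u => Additive.toMul.injective (Subtype.ext ?_)
      set v : K := ((Additive.toMul u : V) : K) with hv
      have hprod : ∀ m, ((Additive.toMul ((∑ k ∈ Finset.range m, conjOp (p := p) V g ^ k) u) : V) : K)
          = (v * g) ^ m * (g ^ m)⁻¹ := by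
        intro m
        induction m with
        | zero => simp
        | succ m ih =>
          rw [Finset.sum_range_succ, LinearMap.add_apply, toMul_add, Subgroup.coe_mul, ih,
            ← conjOp_pow, coe_conjOp, ← hv, pow_succ (v * g) m, pow_succ g m]
          group
      rw [hprod, hgr, inv_one, mul_one, LinearMap.zero_apply, toMul_zero, OneMemClass.coe_one]
      have hWp : IsPGroup p (V ⊔ zpowers g : Subgroup K) :=
        IsPGroup.to_sup_of_normal_left hVp (IsPGroup.of_card (n := 1)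
          (by rw [Nat.card_zpowers, hgo, hrp', pow_one]))
      rw [hrp']
      exact h.pow_eq_one hWp (mul_mem (mem_sup_left (Additive.toMul u).2)
        (mem_sup_right (mem_zpowers g)))
    · have hG : conjOp (p := p) V g ^ r = 1 := conjOp_pow_eq_one V hgr
      rw [← sum_powZ (q := r) hG (conjOp_fix V (h.fix_free hVp hg1 (hgo ▸ hrp')))]
      refine Finset.sum_bij' (fun k _ => (k : ZMod r)) (fun a _ => a.val)
        (fun _ _ => Finset.mem_univ _) (fun a _ => Finset.mem_range.2 (ZMod.val_lt a))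
        (fun k hk => ZMod.val_natCast_of_lt (Finset.mem_range.1 hk))
        (fun a _ => ZMod.natCast_zmod_val a) fun k _ => ?_
      rw [pow_eq_powZ hG]
  have h0 := Finset.sum_eq_zero (s := (Finset.univ : Finset (ZMod q))) fun c _ => hsum c.val
  rw [Finset.sum_comm, Finset.sum_eq_single 0] at h0
  · simp only [pow_zero, Finset.sum_const, Finset.card_univ, ZMod.card] at h0
    obtain ⟨a, ha⟩ : ∃ a : V, a ≠ 1 := by
      haveI := (Subgroup.nontrivial_iff_ne_bot V).2 hV
      exact exists_ne 1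
    have h3 := congrArg (fun f : Module.End (ZMod p) (Additive V) => f (Additive.ofMul a)) h0
    simp only [LinearMap.smul_apply, Module.End.one_apply, LinearMap.zero_apply] at h3
    rw [← Nat.cast_smul_eq_nsmul (ZMod p), smul_eq_zero, ZMod.natCast_eq_zero_iff] at h3
    exact hqp ((Nat.prime_dvd_prime_iff_eq hp.out hq.out).1
      (h3.resolve_right fun e => ha (Additive.ofMul.injective e))).symm
  · intro k hk hk0
    have hterm : ∀ c : ZMod q, conjOp (p := p) V (y ^ c.val * x) ^ k =
        powZ (conjOp (p := p) V y) (c * ((s k : ℕ) : ZMod q)) * conjOp (p := p) V x ^ k := fun c => by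
      rw [← conjOp_pow, hmulpow, conjOp_mul, conjOp_pow, conjOp_pow, pow_eq_powZ hYq, Nat.cast_mul,
        ZMod.natCast_zmod_val]
    simp only [hterm]
    rw [← Finset.sum_mul, sum_powZ_mul hYq hYfix,
      if_neg (fun e => hk0 (hs0 k (Finset.mem_range.1 hk) e)), zero_mul]
  · exact fun hh => absurd (Finset.mem_range.2 hrp.pos) hh

/-- A Sylow subgroup for another prime has prime order. -/
theorem PrimeOrders.card_sylow_le (h : PrimeOrders K) (hV : V ≠ ⊥) (hVp : IsPGroup p V) {q : ℕ}
    [hq : Fact q.Prime] (hqp : q ≠ p) (hqd : q ∣ Nat.card K) (Q : Sylow q K) :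
    Nat.card (Q : Subgroup K) = q := by
  haveI : Nontrivial (Q : Subgroup K) := (nontrivial_iff_ne_bot _).2 (Q.ne_bot_of_dvd_card hqd)
  haveI := Q.isPGroup'.center_nontrivial
  obtain ⟨z, hz⟩ := exists_ne (1 : Subgroup.center (Q : Subgroup K))
  have hz1 : ((z : (Q : Subgroup K)) : K) ≠ 1 := fun e => hz (Subtype.ext (Subtype.ext e))
  have hzo := h.orderOf_of_isPGroup Q.isPGroup' (z : (Q : Subgroup K)).2 hz1
  have hle : (Q : Subgroup K) ≤ zpowers ((z : (Q : Subgroup K)) : K) := by
    intro w hw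
    by_contra hwz
    have hexp : ∀ a ∈ V, a ^ p = 1 := fun a ha => h.pow_eq_one hVp ha
    suffices H : ∀ [Module (ZMod p) (Additive V)], False from @H (zmodMod hexp)
    intro _inst
    refine no_free_pair (q := q) hqp.symm hV (z := ((z : (Q : Subgroup K)) : K)) (w := w)
      (congrArg Subtype.val ((Subgroup.mem_center_iff.1 z.2 ⟨w, hw⟩).symm))
      (h.pow_eq_one Q.isPGroup' (z : (Q : Subgroup K)).2) (h.pow_eq_one Q.isPGroup' hw)
      (h.fix_free hVp hz1 (fun e => hqp (hzo.symm.trans e))) fun i => ?_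
    have hne : ((z : (Q : Subgroup K)) : K) ^ i * w ≠ 1 := fun e => hwz (by
      rw [eq_inv_of_mul_eq_one_right e]
      exact inv_mem (pow_mem (mem_zpowers _) i))
    refine h.fix_free hVp hne ?_
    rw [h.orderOf_of_isPGroup Q.isPGroup' (mul_mem (pow_mem (z : (Q : Subgroup K)).2 i) hw) hne]
    exact hqp
  rw [le_antisymm hle (zpowers_le.2 (z : (Q : Subgroup K)).2), Nat.card_zpowers, hzo]

theorem PrimeOrders.normalizer_sylow (h : PrimeOrders K) (hV : V ≠ ⊥) (hVp : IsPGroup p V) {q : ℕ}
    [hq : Fact q.Prime] (hqp : q ≠ p) (hqd : q ∣ Nat.card K) (Q : Sylow q K) :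
    normalizer (Q : Set K) = Q ∧ IsMulCommutative (Q : Subgroup K) := by
  have hc := h.card_sylow_le hV hVp hqp hqd Q
  haveI : IsCyclic (Q : Subgroup K) := isCyclic_of_prime_card hc
  obtain ⟨y, hy⟩ := IsCyclic.exists_ofOrder_eq_natCard (α := (Q : Subgroup K))
  have hyK : orderOf (y : K) = q := by rw [Subgroup.orderOf_coe, hy, hc]
  have hQy : (Q : Subgroup K) = zpowers (y : K) := by
    refine (Subgroup.eq_of_le_of_card_ge (zpowers_le.2 y.2) (le_of_eq ?_)).symm
    rw [Nat.card_zpowers, hyK, hc]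
  refine ⟨le_antisymm (fun x hx => ?_) le_normalizer, inferInstance⟩
  by_cases hx1 : x = 1
  · exact hx1 ▸ one_mem _
  have hmem : x * (y : K) * x⁻¹ ∈ (Q : Subgroup K) := (mem_normalizer_iff.1 hx _).1 y.2
  obtain ⟨i, hi⟩ := (isOfFinOrder_of_finite (y : K)).mem_powers_iff_mem_zpowers.2 (hQy.le hmem)
  have h1 := h.eq_one_of_conj_pow hV hVp hqp hyK hx1 hi.symm
  have hcom : Commute x (y : K) := mul_inv_eq_iff_eq_mul.1 (by
    rw [← hi]
    show (y : K) ^ i = y
    conv_rhs => rw [← pow_one (y : K)]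
    rw [pow_eq_pow_iff_modEq, hyK]
    exact (ZMod.natCast_eq_natCast_iff _ _ _).1 (by rw [h1, Nat.cast_one]))
  have hxC : x ∈ centralizer ({(y : K)} : Set K) := mem_centralizer_singleton_iff.2 hcom
  have hQC : (Q : Subgroup K) ≤ centralizer ({(y : K)} : Set K) := by
    exact hQy.le.trans (zpowers_le.2 (mem_centralizer_singleton_iff.2 rfl))
  rw [← Q.is_maximal' (h.isPGroup_centralizer hyK) hQC]
  exact hxC

/-- A normal complement to a Sylow subgroup for another prime. -/
theorem PrimeOrders.exists_complement (h : PrimeOrders K) (hV : V ≠ ⊥) (hVp : IsPGroup p V) {q : ℕ}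
    [hq : Fact q.Prime] (hqp : q ≠ p) (hqd : q ∣ Nat.card K) :
    ∃ M : Subgroup K, M.Normal ∧ ¬ q ∣ Nat.card M ∧ ∀ g : K, orderOf g ≠ q → g ∈ M := by
  let Q : Sylow q K := default
  obtain ⟨hN, hc⟩ := h.normalizer_sylow hV hVp hqp hqd Q
  obtain ⟨R, M, hM, hMR⟩ := Transfer.hasNormalPComplement_of_normalizer_le_centralizer Q
    (by rw [hN]; exact fun a ha => mem_centralizer_iff.2 fun b hb =>
      congrArg Subtype.val (mul_comm' (⟨b, hb⟩ : (Q : Subgroup K)) ⟨a, ha⟩))
  haveI := hM
  have hR := h.card_sylow_le hV hVp hqp hqd R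
  have hidx : M.index = q := by rw [hMR.symm.index_eq_card, hR]
  refine ⟨M, hM, fun hd => ?_, fun g hg => ?_⟩
  · obtain ⟨g, hg⟩ := exists_prime_orderOf_dvd_card' (G := M) q hd
    obtain ⟨T, hT⟩ := (IsPGroup.of_card (n := 1) (by
      rw [Nat.card_zpowers, Subgroup.orderOf_coe, hg, pow_one]) :
        IsPGroup q (zpowers (g : K))).exists_le_sylow
    have hTM : (T : Subgroup K) ≤ M := by
      rw [← Subgroup.eq_of_le_of_card_ge hT (by
        rw [h.card_sylow_le hV hVp hqp hqd T, Nat.card_zpowers, Subgroup.orderOf_coe, hg])]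
      exact zpowers_le.2 g.2
    exact T.not_dvd_index ((dvd_of_eq hidx.symm).trans (index_dvd_of_le hTM))
  · by_cases hg1 : g = 1
    · exact hg1 ▸ one_mem _
    · by_contra hgM
      have h1 : orderOf (QuotientGroup.mk' M g) = q :=
        ((Nat.dvd_prime hq.out).1 (hidx ▸ orderOf_dvd_natCard (QuotientGroup.mk' M g))).resolve_left
          fun e => hgM ((QuotientGroup.eq_one_iff g).1 (orderOf_eq_one_iff.1 e))
      have h2 := orderOf_map_dvd (QuotientGroup.mk' M) g
      rw [h1] at h2
      exact hg ((Nat.prime_dvd_prime_iff_eq hq.out (h g hg1)).1 h2).symm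

/-- Two `p`-subgroups generate a `p`-group. -/
theorem PrimeOrders.isPGroup_sup (h : PrimeOrders K) (hV : V ≠ ⊥) (hVp : IsPGroup p V)
    {A B : Subgroup K} (hA : IsPGroup p A) (hB : IsPGroup p B) : IsPGroup p (A ⊔ B : Subgroup K) := by
  intro g
  refine ⟨1, Subtype.ext ?_⟩
  rw [pow_one]
  by_cases hg : (g : K) = 1
  · simp [hg]
  by_contra hne
  haveI := Fact.mk (h _ hg)
  have hqp : orderOf (g : K) ≠ p := fun e => hne (by
    simp only [SubmonoidClass.coe_pow, OneMemClass.coe_one]; rw [← e, pow_orderOf_eq_one])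
  obtain ⟨M, -, hM, hMem⟩ := h.exists_complement hV hVp hqp (orderOf_dvd_natCard _)
  have hle : ∀ C : Subgroup K, IsPGroup p C → C ≤ M := fun C hC c hc => hMem c fun e => by
    by_cases hc1 : c = 1
    · rw [hc1, orderOf_one] at e; exact (h _ hg).ne_one e.symm
    · exact hqp (e ▸ h.orderOf_of_isPGroup hC hc hc1)
  exact hM (Subgroup.orderOf_coe (⟨(g : K), sup_le (hle A hA) (hle B hB) g.2⟩ : M) ▸ orderOf_dvd_natCard _)

/-- Only one prime besides `p` occurs. -/
theorem PrimeOrders.other_prime_unique (h : PrimeOrders K) (hV : V ≠ ⊥) (hVp : IsPGroup p V)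
    {q r : ℕ} [hq : Fact q.Prime] [hr : Fact r.Prime] (hqp : q ≠ p) (hrp : r ≠ p)
    (hqd : q ∣ Nat.card K) (hrd : r ∣ Nat.card K) : q = r := by
  by_contra hqr
  obtain ⟨M, hMn, hM, hMem⟩ := h.exists_complement hV hVp hqp hqd
  let R : Sylow r K := default
  have hRM : (R : Subgroup K) ≤ M := fun c hc => hMem c fun e => by
    by_cases hc1 : c = 1
    · rw [hc1, orderOf_one] at e; exact hq.out.ne_one e.symm
    · exact hqr (e.symm.trans (h.orderOf_of_isPGroup R.isPGroup' hc hc1))
  haveI := hMn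
  have h2 := R.normalizer_sup_eq_top' hRM
  rw [(h.normalizer_sylow hV hVp hrp hrd R).1, sup_eq_right.2 hRM] at h2
  exact hM (by rw [h2, Subgroup.card_top]; exact hqd)

end Normal

end Cfsg.Agent.FourOrbits
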