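import Cfsg.Agent.Lib.FourOrbits.Local
import Cfsg.Agent.Lib.CharInt.Burnside

/-!
# Simple groups with one automorphism orbit for each element order, all orders prime

Sylow subgroups are abelian TI, self-centralising, and their normalisers have order `|P| e`.
-/

set_option linter.style.haveILetI false

namespace Cfsg.Agent.FourOrbits

open scoped IsMulCommutative Pointwise
open Subgroup

universe u

/-- The situation studied. -/
structure Hyp (G : Type u) [Group G] : Prop where
  prime : PrimeOrders G
  trans : ∀ g h : G, orderOf g = orderOf h → ∃ σ : MulAut G, σ g = h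
  simple : IsSimpleGroup G
  not_solvable : ¬ Group.IsSolvable G

variable {G : Type u} [Group G] [Finite G] {s : ℕ} [hs : Fact s.Prime]

theorem lt_inf_normalizer {D P : Subgroup G} (hP : IsPGroup s P) (h : D < P) :
    D < P ⊓ normalizer (D : Set G) := by
  haveI : Group.IsNilpotent P := hP.isNilpotent
  have hne : D.subgroupOf P < ⊤ := lt_top_iff_ne_top.2 fun e =>
    not_le_of_gt h (subgroupOf_eq_top.1 e)
  obtain ⟨x, hx, hxD⟩ := SetLike.exists_of_lt (Group.normalizerCondition_of_isNilpotent _ hne)
  refine lt_of_le_of_ne (le_inf h.le le_normalizer) fun e => hxD ?_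
  have hxN : (x : G) ∈ normalizer (D : Set G) := by
    rw [mem_normalizer_iff]
    intro y
    constructor
    · intro hy
      exact (mem_normalizer_iff.1 hx ⟨y, h.le hy⟩).1 hy
    · intro hy
      have hyP : y ∈ P := by
        have := P.mul_mem (P.mul_mem (P.inv_mem x.2) (h.le hy)) x.2
        simpa [mul_assoc] using this
      exact (mem_normalizer_iff.1 hx ⟨y, hyP⟩).2 hy
  show (x : G) ∈ D
  rw [e]
  exact ⟨x.2, hxN⟩

namespace Hyp

variable (H : Hyp G)
include H

theorem sylow_ne_bot (hd : s ∣ Nat.card G) (P : Sylow s G) : (P : Subgroup G) ≠ ⊥ :=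
  P.ne_bot_of_dvd_card hd

theorem exists_sylow_centralizer {x : G} (hx : orderOf x = s) :
    ∃ S : Sylow s G, (S : Subgroup G) = centralizer ({x} : Set G) := by
  have hd : s ∣ Nat.card G := hx ▸ orderOf_dvd_natCard x
  let P : Sylow s G := default
  haveI : Nontrivial (P : Subgroup G) := (nontrivial_iff_ne_bot _).2 (H.sylow_ne_bot hd P)
  haveI := P.isPGroup'.center_nontrivial
  obtain ⟨z, hz⟩ := exists_ne (1 : Subgroup.center (P : Subgroup G))
  have hz1 : ((z : (P : Subgroup G)) : G) ≠ 1 := fun e => hz (Subtype.ext (Subtype.ext e))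
  have hzo := H.prime.orderOf_of_isPGroup P.isPGroup' (z : (P : Subgroup G)).2 hz1
  have hPC : (P : Subgroup G) = centralizer ({((z : (P : Subgroup G)) : G)} : Set G) :=
    (P.is_maximal' (H.prime.isPGroup_centralizer hzo) fun w hw => mem_centralizer_singleton_iff.2
      (congrArg Subtype.val (Subgroup.mem_center_iff.1 z.2 ⟨w, hw⟩))).symm
  obtain ⟨σ, hσ⟩ := H.trans _ x (hzo.trans hx.symm)
  obtain ⟨S, hS⟩ := (H.prime.isPGroup_centralizer hx).exists_le_sylow
  refine ⟨S, (Subgroup.eq_of_le_of_card_ge hS ?_).symm⟩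
  have hmap : (centralizer ({((z : (P : Subgroup G)) : G)} : Set G)).map σ.toMonoidHom ≤
      centralizer ({x} : Set G) := by
    rintro _ ⟨w, hw, rfl⟩
    rw [mem_centralizer_singleton_iff]
    rw [SetLike.mem_coe, mem_centralizer_singleton_iff] at hw
    rw [← hσ]
    simpa [map_mul] using congrArg σ hw
  refine le_trans ?_ (Subgroup.card_le_of_le hmap)
  rw [card_map_of_injective σ.injective, ← hPC, S.card_eq_multiplicity, P.card_eq_multiplicity]

/-- Sylow subgroups meet trivially. -/
theorem sylow_eq_of_meet (P P' : Sylow s G) {x : G} (hx1 : x ≠ 1) (hx : x ∈ (P : Subgroup G))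
    (hx' : x ∈ (P' : Subgroup G)) : P = P' := by
  suffices key : ∀ D : Subgroup G, ∀ P P' : Sylow s G, D = (P : Subgroup G) ⊓ P' → D ≠ ⊥ → P = P' from
    key _ P P' rfl fun e => hx1 (by
      have : x ∈ (P : Subgroup G) ⊓ P' := ⟨hx, hx'⟩
      rwa [e, mem_bot] at this)
  intro D
  induction D using WellFoundedGT.induction with
  | _ D ih =>
    intro P P' hD hD1
    by_contra hne
    have hDP : D < P := lt_of_le_of_ne (hD ▸ inf_le_left) fun e => hne (Sylow.ext
      ((P.is_maximal' P'.isPGroup' (inf_eq_left.1 (hD.symm.trans e))).symm))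
    have hDP' : D < P' := lt_of_le_of_ne (hD ▸ inf_le_right) fun e => hne (Sylow.ext
      (P'.is_maximal' P.isPGroup' (inf_eq_right.1 (hD.symm.trans e))))
    have hDs : IsPGroup s D := P.isPGroup'.to_le hDP.le
    haveI : Nontrivial D := (nontrivial_iff_ne_bot _).2 hD1
    haveI := hDs.center_nontrivial
    let V : Subgroup G := (Subgroup.center D).map D.subtype
    have hV1 : V ≠ ⊥ := fun e => (Subgroup.nontrivial_iff_ne_bot (Subgroup.center D)).1 inferInstance
      ((Subgroup.map_eq_bot_iff_of_injective _ D.subtype_injective).1 e)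
    have hND : normalizer (D : Set G) ≤ normalizer (V : Set G) := by
      intro g hg
      rw [mem_normalizer_iff]
      have key : ∀ g ∈ normalizer (D : Set G), ∀ v ∈ V, g * v * g⁻¹ ∈ V := by
        rintro g hg _ ⟨⟨d, hdD⟩, hd, rfl⟩
        refine ⟨⟨g * d * g⁻¹, (mem_normalizer_iff.1 hg d).1 hdD⟩, ?_, rfl⟩
        rw [SetLike.mem_coe, Subgroup.mem_center_iff]
        intro w
        have hw : g⁻¹ * (w : G) * g ∈ D := by
          have := (mem_normalizer_iff.1 (inv_mem hg) (w : G)).1 w.2
          simpa using this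
        have h2 := congrArg Subtype.val ((Subgroup.mem_center_iff.1 hd) ⟨_, hw⟩)
        refine Subtype.ext ?_
        simp only [MulMemClass.mk_mul_mk] at h2
        show (w : G) * (g * d * g⁻¹) = g * d * g⁻¹ * w
        calc (w : G) * (g * d * g⁻¹) = g * (g⁻¹ * (w : G) * g * d) * g⁻¹ := by group
          _ = g * (d * (g⁻¹ * (w : G) * g)) * g⁻¹ := by rw [h2]
          _ = _ := by group
      exact fun v => ⟨key g hg v, fun hv => by simpa [mul_assoc] using key g⁻¹ (inv_mem hg) _ hv⟩
    set K := normalizer (V : Set G) with hK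
    have hVK : V ≤ K := le_normalizer
    haveI : (V.subgroupOf K).Normal := normal_in_normalizer
    haveI : IsMulCommutative (V.subgroupOf K) := ⟨⟨fun a b => by
      obtain ⟨a', ha', ha⟩ := a.2
      obtain ⟨b', hb', hb⟩ := b.2
      refine Subtype.ext (Subtype.ext ?_)
      simp only [Subgroup.coe_mul]
      rw [show ((a : K) : G) = D.subtype a' from ha.symm, show ((b : K) : G) = D.subtype b' from hb.symm,
        ← map_mul, ← map_mul, Subgroup.mem_center_iff.1 hb' a']⟩⟩
    have hVp : IsPGroup s (V.subgroupOf K) :=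
      ((hDs.to_subgroup _).map D.subtype).comap_of_injective K.subtype K.subtype_injective
    have hVb : V.subgroupOf K ≠ ⊥ := fun e => hV1 (by
      rw [← map_subgroupOf_eq_of_le hVK, e, Subgroup.map_bot])
    let A : Subgroup G := (P : Subgroup G) ⊓ normalizer (D : Set G)
    let B : Subgroup G := (P' : Subgroup G) ⊓ normalizer (D : Set G)
    have hA : A ≤ K := inf_le_right.trans hND
    have hB : B ≤ K := inf_le_right.trans hND
    have hJ := (H.prime.subgroup K).isPGroup_sup hVb hVp
      ((P.isPGroup'.to_le (inf_le_left : A ≤ _)).comap_of_injective K.subtype K.subtype_injective)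
      ((P'.isPGroup'.to_le (inf_le_left : B ≤ _)).comap_of_injective K.subtype K.subtype_injective)
    obtain ⟨S, hS⟩ := (hJ.map K.subtype).exists_le_sylow
    have hAS : A ≤ S := le_trans (le_of_eq (map_subgroupOf_eq_of_le hA).symm)
      ((map_mono le_sup_left).trans hS)
    have hBS : B ≤ S := le_trans (le_of_eq (map_subgroupOf_eq_of_le hB).symm)
      ((map_mono le_sup_right).trans hS)
    have h1 : D < (P : Subgroup G) ⊓ S :=
      lt_of_lt_of_le (lt_inf_normalizer P.isPGroup' hDP) (le_inf inf_le_left hAS)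
    have h2 : D < (P' : Subgroup G) ⊓ S :=
      lt_of_lt_of_le (lt_inf_normalizer P'.isPGroup' hDP') (le_inf inf_le_left hBS)
    exact hne ((ih _ h1 P S rfl (ne_bot_of_gt h1)).trans (ih _ h2 P' S rfl (ne_bot_of_gt h2)).symm)

theorem centralizer_eq (P : Sylow s G) {x : G} (hx : x ∈ (P : Subgroup G)) (hx1 : x ≠ 1) :
    centralizer ({x} : Set G) = P := by
  obtain ⟨S, hS⟩ := H.exists_sylow_centralizer (H.prime.orderOf_of_isPGroup P.isPGroup' hx hx1)
  have hxS : x ∈ (S : Subgroup G) := hS ▸ mem_centralizer_singleton_iff.2 rfl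
  rw [← hS, H.sylow_eq_of_meet P S hx1 hx hxS]

theorem commute_sylow (P : Sylow s G) : IsMulCommutative (P : Subgroup G) := ⟨⟨fun a b => by
  by_cases ha : (a : G) = 1
  · refine Subtype.ext ?_; simp [ha]
  · have hb : (b : G) ∈ centralizer ({(a : G)} : Set G) := (H.centralizer_eq P a.2 ha).symm ▸ b.2
    exact Subtype.ext (mem_centralizer_singleton_iff.1 hb).symm⟩⟩

theorem card_sylow_mul (P : Sylow s G) :
    Nat.card (Sylow s G) * Nat.card (normalizer (P : Set G)) = Nat.card G := by
  rw [P.card_eq_index_normalizer]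
  exact index_mul_card _

/-- The normaliser of a Sylow subgroup. -/
theorem exists_normalizer (hd : s ∣ Nat.card G) (P : Sylow s G) :
    ∃ e : ℕ, e.Prime ∧ e ≠ s ∧ e ∣ Nat.card G ∧
      Nat.card (normalizer (P : Set G)) = Nat.card (P : Subgroup G) * e ∧
      e ∣ Nat.card (P : Subgroup G) - 1 ∧
      ∀ g ∈ normalizer (P : Set G), g ∉ (P : Subgroup G) → orderOf g = e := by
  classical
  set K := normalizer (P : Set G) with hKdef
  have hPK : (P : Subgroup G) ≤ K := le_normalizer
  set V := (P : Subgroup G).subgroupOf K with hVdef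
  haveI : V.Normal := normal_in_normalizer
  haveI := H.commute_sylow P
  haveI : IsMulCommutative V := ⟨⟨fun a b => by
    have h := congrArg Subtype.val
      (mul_comm' (⟨((a : K) : G), a.2⟩ : (P : Subgroup G)) ⟨((b : K) : G), b.2⟩)
    exact Subtype.ext (Subtype.ext h)⟩⟩
  have hVp : IsPGroup s V := P.isPGroup'.comap_of_injective K.subtype K.subtype_injective
  have hVcard : Nat.card V = Nat.card (P : Subgroup G) :=
    Nat.card_congr (subgroupOfEquivOfLe hPK).toEquiv
  have hV1 : V ≠ ⊥ := fun e => H.sylow_ne_bot hd P (Subgroup.card_eq_one.1 (by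
    rw [← hVcard, e, Subgroup.card_bot]))
  have hidx : ¬ s ∣ V.index := fun h => P.not_dvd_index (h.trans (by
    rw [hVdef]; exact relIndex_dvd_index_of_le hPK))
  have hout : ∀ g ∈ K, g ∉ (P : Subgroup G) → orderOf g ≠ s := by
    intro g hg hgP e
    have hJ := (H.prime.subgroup K).isPGroup_sup hV1 hVp (A := zpowers (⟨g, hg⟩ : K)) (B := V)
      (IsPGroup.of_card (n := 1) (by rw [Nat.card_zpowers, Subgroup.orderOf_mk, e, pow_one])) hVp
    have h2 := P.is_maximal' (hJ.map K.subtype) (le_trans (le_of_eq (map_subgroupOf_eq_of_le hPK).symm)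
      (map_mono le_sup_right))
    exact hgP (h2 ▸ ⟨⟨g, hg⟩, mem_sup_left (mem_zpowers _), rfl⟩)
  have hne : V.index ≠ 1 := by
    intro h
    have hKP : K ≤ P := subgroupOf_eq_top.1 (index_eq_one.1 h)
    obtain ⟨R, M, hM, hMR⟩ := Transfer.hasNormalPComplement_of_normalizer_le_centralizer P
      (fun a ha => mem_centralizer_iff.2 fun b hb =>
        congrArg Subtype.val (mul_comm' (⟨b, hb⟩ : (P : Subgroup G)) ⟨a, hKP ha⟩))
    haveI := H.simple
    rcases hM.eq_bot_or_eq_top with rfl | rfl
    · have h1 : (R : Subgroup G) = ⊤ := isComplement'_bot_left.1 hMR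
      have hG : IsPGroup s G := fun g => by
        obtain ⟨k, hk⟩ := R.isPGroup' ⟨g, h1 ▸ mem_top g⟩
        exact ⟨k, congrArg Subtype.val hk⟩
      haveI := hG.isNilpotent
      exact H.not_solvable inferInstance
    · exact H.sylow_ne_bot hd R (isComplement'_top_left.1 hMR)
  obtain ⟨e, he, hed⟩ := Nat.exists_prime_and_dvd hne
  haveI := Fact.mk he
  have hes : e ≠ s := fun h => hidx (h ▸ hed)
  have heK : e ∣ Nat.card K := hed.trans (index_dvd_card _)
  have hpr : ∀ r : ℕ, r.Prime → r ≠ s → r ∣ Nat.card K → r = e := fun r hr hrs hrd => by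
    haveI := Fact.mk hr
    exact (H.prime.subgroup K).other_prime_unique hV1 hVp hrs hes hrd heK
  have hie : V.index = e := by
    obtain ⟨i, hi⟩ : ∃ i, V.index = e ^ i := ⟨_, Nat.eq_prime_pow_of_unique_prime_dvd
      V.index_ne_zero_of_finite fun {r} hr hrd => hpr r hr (fun h => hidx (h ▸ hrd))
        (hrd.trans (index_dvd_card _))⟩
    obtain ⟨k, hk⟩ := IsPGroup.iff_card.1 hVp
    let Q : Sylow e K := default
    have hQ := (H.prime.subgroup K).card_sylow_le hV1 hVp hes heK Q
    rw [Q.card_eq_multiplicity, ← V.card_mul_index, hk, hi,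
      Nat.factorization_mul (pow_ne_zero _ hs.out.ne_zero) (pow_ne_zero _ he.ne_zero),
      Finsupp.add_apply, hs.out.factorization_pow, he.factorization_pow, Finsupp.single_eq_same,
      Finsupp.single_eq_of_ne hes, zero_add] at hQ
    conv_rhs at hQ => rw [← pow_one e]
    rw [hi, Nat.pow_right_injective he.two_le hQ, pow_one]
  have hcard : Nat.card K = Nat.card (P : Subgroup G) * e := by
    rw [← V.card_mul_index, hVcard, hie]
  have hord : ∀ g ∈ K, g ∉ (P : Subgroup G) → orderOf g = e := by
    intro g hg hgP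
    refine hpr _ (H.prime g fun h => hgP (h ▸ one_mem _)) (hout g hg hgP) ?_
    rw [← Subgroup.orderOf_mk (H := K) g hg]
    exact orderOf_dvd_natCard _
  refine ⟨e, he, hes, heK.trans (card_subgroup_dvd_card _), hcard, ?_, hord⟩
  obtain ⟨y, hy⟩ := exists_prime_orderOf_dvd_card' (G := K) e heK
  have hyG : orderOf (y : G) = e := by rw [Subgroup.orderOf_coe, hy]
  letI : MulAction (zpowers y) V :=
    MulAction.compHom V ((MulAut.conjNormal : K →* MulAut V).comp (zpowers y).subtype)
  have hfix : MulAction.fixedPoints (zpowers y) V = {1} := by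
    ext a
    constructor
    · intro ha
      by_contra ha1
      refine (H.prime.subgroup K).fix_free hVp (fun h => he.ne_one ?_) (by rw [hy]; exact hes) a ha1 ?_
      · rw [← hy, h, orderOf_one]
      · have h1 : (MulAut.conjNormal y : V ≃* V) a = a := ha ⟨y, mem_zpowers y⟩
        conv_rhs => rw [← h1]
        exact (MulAut.conjNormal_apply ..).symm
    · rintro rfl g
      exact map_one ((MulAut.conjNormal : K →* MulAut V) (g : K))
  have hmod := (IsPGroup.of_card (n := 1) (show Nat.card (zpowers y) = e ^ 1 by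
    rw [Nat.card_zpowers, hy, pow_one]) : IsPGroup e (zpowers y)).card_modEq_card_fixedPoints V
  rw [hfix, hVcard] at hmod
  simp only [Nat.card_eq_fintype_card, Fintype.card_unique] at hmod
  exact (Nat.modEq_iff_dvd' Nat.card_pos).1 (by simpa using hmod.symm)

/-- The number of elements of order `s`. -/
theorem card_orderOf (P : Sylow s G) :
    Nat.card {g : G // orderOf g = s} = Nat.card (Sylow s G) * (Nat.card (P : Subgroup G) - 1) := by
  classical
  haveI := Fintype.ofFinite (Sylow s G)
  have hne : ∀ S : Sylow s G,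
      Nat.card {x : (S : Subgroup G) // x ≠ 1} = Nat.card (P : Subgroup G) - 1 := fun S => by
    haveI := Fintype.ofFinite (S : Subgroup G)
    rw [Nat.card_eq_fintype_card, Fintype.card_subtype_compl, Fintype.card_subtype_eq,
      ← Nat.card_eq_fintype_card, S.card_eq_multiplicity, P.card_eq_multiplicity]
  let φ : (Σ S : Sylow s G, {x : (S : Subgroup G) // x ≠ 1}) → {g : G // orderOf g = s} := fun a =>
    ⟨(a.2.1 : G), H.prime.orderOf_of_isPGroup a.1.isPGroup' a.2.1.2 fun e => a.2.2 (Subtype.ext e)⟩
  have hφ : Function.Bijective φ := by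
    constructor
    · rintro ⟨S, x, hx⟩ ⟨T, y, hy⟩ h
      have hxy : (x : G) = y := congrArg Subtype.val h
      obtain rfl : S = T := H.sylow_eq_of_meet S T (fun e => hx (Subtype.ext e)) x.2 (hxy ▸ y.2)
      obtain rfl : x = y := Subtype.ext hxy
      rfl
    · rintro ⟨g, hg⟩
      obtain ⟨S, hS⟩ := H.exists_sylow_centralizer hg
      exact ⟨⟨S, ⟨⟨g, hS ▸ mem_centralizer_singleton_iff.2 rfl⟩, fun e => hs.out.ne_one (by
        rw [← hg, show g = 1 from congrArg Subtype.val e, orderOf_one])⟩⟩, rfl⟩
  rw [← Nat.card_congr (Equiv.ofBijective φ hφ), Nat.card_sigma, Finset.sum_congr rfl fun S _ => hne S,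
    Finset.sum_const, Finset.card_univ, smul_eq_mul, ← Nat.card_eq_fintype_card]

omit hs in
theorem mem_normalizer_smul (σ : MulAut G) (S : Sylow s G) (g : G) :
    σ g ∈ normalizer ((σ • S : Sylow s G) : Set G) ↔ g ∈ normalizer (S : Set G) := by
  have hm : ∀ x, σ x ∈ ((σ • S : Sylow s G) : Subgroup G) ↔ x ∈ (S : Subgroup G) := fun x => by
    show σ x ∈ σ • (S : Subgroup G) ↔ _
    exact Subgroup.smul_mem_pointwise_smul_iff
  show σ g ∈ normalizer (((σ • S : Sylow s G) : Subgroup G) : Set G) ↔
    g ∈ normalizer ((S : Subgroup G) : Set G)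
  rw [mem_normalizer_iff, mem_normalizer_iff]
  constructor
  · intro h x
    have := h (σ x)
    rwa [← map_mul, ← map_inv, ← map_mul, hm, hm] at this
  · intro h x
    obtain ⟨x, rfl⟩ := σ.surjective x
    rw [← map_mul, ← map_inv, ← map_mul, hm, hm]
    exact h x

/-- Incidences between elements of order `e` and normalisers of Sylow `s`-subgroups. -/
theorem incidence (P : Sylow s G) {e : ℕ} (he : e.Prime) (hes : e ≠ s)
    (hcard : Nat.card (normalizer (P : Set G)) = Nat.card (P : Subgroup G) * e)
    (hord : ∀ g ∈ normalizer (P : Set G), g ∉ (P : Subgroup G) → orderOf g = e)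
    {g₀ : G} (hg₀ : orderOf g₀ = e) :
    Nat.card {g : G // orderOf g = e} * Nat.card {S : Sylow s G // g₀ ∈ normalizer (S : Set G)} =
      Nat.card (Sylow s G) * (Nat.card (P : Subgroup G) * e - Nat.card (P : Subgroup G)) := by
  classical
  haveI := Fintype.ofFinite G
  haveI := Fintype.ofFinite (Sylow s G)
  let inc : G → Sylow s G → Prop := fun g S => orderOf g = e ∧ g ∈ normalizer (S : Set G)
  have hgcount : ∀ g : G, orderOf g = e →
      (Finset.univ.filter (inc g)).card = Nat.card {S : Sylow s G // g₀ ∈ normalizer (S : Set G)} := by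
    intro g hg
    obtain ⟨σ, hσ⟩ := H.trans g₀ g (hg₀.trans hg.symm)
    rw [Nat.card_eq_fintype_card, ← Fintype.card_subtype]
    refine (Fintype.card_congr ((MulAction.toPerm σ).subtypeEquiv fun S => ?_)).symm
    show g₀ ∈ normalizer (S : Set G) ↔ inc g (σ • S)
    rw [← hσ, show inc (σ g₀) (σ • S) ↔ σ g₀ ∈ normalizer ((σ • S : Sylow s G) : Set G) from
      ⟨fun h => h.2, fun h => ⟨by rw [hσ, hg], h⟩⟩, H.mem_normalizer_smul]
  have hScount : ∀ S : Sylow s G, (Finset.univ.filter fun g => inc g S).card =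
      Nat.card (P : Subgroup G) * e - Nat.card (P : Subgroup G) := by
    intro S
    obtain ⟨c, hc⟩ := MulAction.exists_smul_eq G P S
    have hiff : ∀ g : G, inc (MulAut.conj c g) S ↔
        g ∈ normalizer (P : Set G) ∧ g ∉ (P : Subgroup G) := by
      intro g
      have hSc : S = MulAut.conj c • P := hc.symm
      show orderOf (MulAut.conj c g) = e ∧ _ ↔ _
      rw [hSc, H.mem_normalizer_smul, show orderOf (MulAut.conj c g) = orderOf g from
        orderOf_injective (MulAut.conj c).toMonoidHom (MulAut.conj c).injective g]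
      constructor
      · rintro ⟨h1, h2⟩
        refine ⟨h2, fun hP => ?_⟩
        by_cases hg1 : g = 1
        · rw [hg1, orderOf_one] at h1; exact he.ne_one h1.symm
        · exact hes (h1.symm.trans (H.prime.orderOf_of_isPGroup P.isPGroup' hP hg1))
      · exact fun ⟨h1, h2⟩ => ⟨hord g h1 h2, h1⟩
    rw [← Fintype.card_subtype,
      ← Fintype.card_congr ((MulAut.conj c).toEquiv.subtypeEquiv fun g => (hiff g).symm),
      Fintype.card_subtype, Finset.filter_and_not, Finset.card_sdiff_of_subset (fun g hg => by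
        simp only [Finset.mem_filter, Finset.mem_univ, true_and] at hg ⊢
        exact le_normalizer hg),
      ← Fintype.card_subtype, ← Fintype.card_subtype, ← Nat.card_eq_fintype_card,
      ← Nat.card_eq_fintype_card]
    exact congrArg₂ (· - ·) hcard rfl
  have h := Finset.sum_card_bipartiteAbove_eq_sum_card_bipartiteBelow inc
    (s := Finset.univ.filter fun g : G => orderOf g = e) (t := (Finset.univ : Finset (Sylow s G)))
  simp only [Finset.bipartiteAbove] at h
  rw [Finset.sum_congr rfl fun g hg => hgcount g (Finset.mem_filter.1 hg).2,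
    Finset.sum_congr rfl fun S _ => show ((Finset.univ.filter fun g : G => orderOf g = e).bipartiteBelow inc S).card = _ from
      (congrArg Finset.card (Finset.ext fun g => by
        simp only [Finset.bipartiteBelow, Finset.mem_filter, Finset.mem_univ, true_and]
        exact ⟨fun h => h.2, fun h => ⟨h.1, h⟩⟩)).trans (hScount S)] at h
  rw [Finset.sum_const, Finset.sum_const, smul_eq_mul, smul_eq_mul, Finset.card_univ,
    ← Nat.card_eq_fintype_card, ← Fintype.card_subtype, ← Nat.card_eq_fintype_card] at h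
  exact h

end Hyp

end Cfsg.Agent.FourOrbits
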